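import Groth.Agent.RootBasic.Int

namespace RootBasicLib

open RootPairing

variable {ι M N : Type*} [AddCommGroup M] [AddCommGroup N] {P : RootPairing ι ℤ M N}

lemma exists_finsupp_of_mem_natSpan {S : Set ι} {x : M} (hx : x ∈ RootD.natSpan P S) :
    ∃ c : ι →₀ ℤ, ↑c.support ⊆ S ∧ (∀ i, 0 ≤ c i) ∧ Finsupp.linearCombination ℤ P.root c = x := by
  classical
  induction hx using AddSubmonoid.closure_induction with
  | mem x hx =>
    obtain ⟨i, hi, rfl⟩ := hx
    refine ⟨Finsupp.single i 1, ?_, ?_, by simp⟩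
    · intro a ha
      obtain rfl : a = i := by simpa using (Finsupp.support_single_subset ha)
      exact hi
    · intro a
      rw [Finsupp.single_apply]; split <;> simp
  | zero => exact ⟨0, by simp, by simp, by simp⟩
  | add x y _ _ ihx ihy =>
    obtain ⟨c, hc1, hc2, rfl⟩ := ihx
    obtain ⟨d, hd1, hd2, rfl⟩ := ihy
    refine ⟨c + d, ?_, fun i => add_nonneg (hc2 i) (hd2 i), by simp⟩
    intro a ha
    rcases Finset.mem_union.1 (Finsupp.support_add ha) with h | h
    · exact hc1 h
    · exact hd1 h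

lemma coeff_eq_of_linInd {S : Set ι} (hS : LinearIndepOn ℤ P.root S) {c d : ι →₀ ℤ}
    (hc : ↑c.support ⊆ S) (hd : ↑d.support ⊆ S)
    (h : Finsupp.linearCombination ℤ P.root c = Finsupp.linearCombination ℤ P.root d) : c = d := by
  classical
  refine linearIndepOn_iffₛ.1 hS c ?_ d ?_ h
  · exact (Finsupp.mem_supported ℤ c).2 hc
  · exact (Finsupp.mem_supported ℤ d).2 hd

/-- In a simple system, a root `x = root a - root b` (a ≠ b simple) is impossible. -/
lemma sub_ne_root_of_simple {Δ : Set ι} (hΔ : RootD.IsSimpleSys P Δ) {a b : ι} (ha : a ∈ Δ)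
    (hb : b ∈ Δ) (hab : a ≠ b) (k : ι) : P.root k ≠ P.root a - P.root b := by
  classical
  intro hk
  have key : ∀ {p q : ι}, p ∈ Δ → q ∈ Δ → p ≠ q →
      P.root p - P.root q ∈ RootD.natSpan P Δ → False := by
    intro p q hp hq hpq hm
    obtain ⟨c, hc1, hc2, hc3⟩ := exists_finsupp_of_mem_natSpan hm
    have hd : ↑(Finsupp.single p (1 : ℤ) - Finsupp.single q 1).support ⊆ Δ := by
      intro x hx
      have := Finsupp.support_sub hx
      rcases Finset.mem_union.1 this with h | h
      · obtain rfl : x = p := by simpa using Finsupp.support_single_subset h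
        exact hp
      · obtain rfl : x = q := by simpa using Finsupp.support_single_subset h
        exact hq
    have he := coeff_eq_of_linInd hΔ.linInd hc1 hd (by rw [hc3]; simp)
    have h0 := hc2 q
    rw [he] at h0
    simp [hpq] at h0
  rcases hΔ.mem_or_neg_mem k with h | h
  · exact key ha hb hab (hk ▸ h)
  · rw [hk, neg_sub] at h
    exact key hb ha hab.symm h

variable [Finite ι]

lemma pairing_nonpos_of_simple {Δ : Set ι} (hΔ : RootD.IsSimpleSys P Δ) {i j : ι} (hi : i ∈ Δ)
    (hj : j ∈ Δ) (hij : i ≠ j) : P.pairing j i ≤ 0 := by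
  by_contra h
  push Not at h
  obtain ⟨k, hk⟩ := exists_root_eq_sub P h hij.symm
  exact sub_ne_root_of_simple hΔ hj hi hij.symm k hk

end RootBasicLib
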