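import Mathlib.LinearAlgebra.RootSystem.Hom

namespace RootBasicLib

open RootPairing

variable {ι R M N : Type*} [CommRing R] [AddCommGroup M] [Module R M] [AddCommGroup N] [Module R N]
  {P : RootPairing ι R M N}

lemma root_smul_index (u : P.Aut) (i : ι) : P.root (u • i) = u • P.root i :=
  RootPairing.Equiv.root_indexEquiv_eq_smul (P := P) i u

lemma coroot'_smul_index (u : P.Aut) (i : ι) (x : M) :
    P.toLinearMap (u • x) (P.coroot (u • i)) = P.toLinearMap x (P.coroot i) := by
  have h1 := Hom.weight_coweight_transpose_apply P P (P.coroot (u • i)) u.toHom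
  have h2 := Hom.coroot_coweightMap_apply P P (u • i) u.toHom
  have h3 : u.toHom.indexEquiv.symm (u • i) = i := u.toHom.indexEquiv.symm_apply_apply i
  rw [h3] at h2
  rw [h2] at h1
  have h4 := LinearMap.congr_fun h1 x
  rw [show u • x = u.toHom.weightMap x from rfl]
  simpa using h4

lemma aut_mul_reflection_mul_inv (u : P.Aut) (i : ι) :
    u * RootPairing.Equiv.reflection P i * u⁻¹ = RootPairing.Equiv.reflection P (u • i) := by
  apply RootPairing.Equiv.weightHom_injective P
  ext x
  show (u * RootPairing.Equiv.reflection P i * u⁻¹) • x =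
    RootPairing.Equiv.reflection P (u • i) • x
  rw [mul_smul, mul_smul, RootPairing.Equiv.reflection_smul, RootPairing.Equiv.reflection_smul,
    RootPairing.reflection_apply, RootPairing.reflection_apply, smul_sub, smul_inv_smul,
    smul_comm, ← root_smul_index]
  congr 2
  have := coroot'_smul_index u i (u⁻¹ • x)
  rw [smul_inv_smul] at this
  exact this.symm

end RootBasicLib
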