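import Mathlib.LinearAlgebra.RootSystem.Finite.Lemmas
import Mathlib.LinearAlgebra.RootSystem.Finite.CanonicalBilinear
import Groth.Agent.RootBasic.Aut
import Groth.Prelude.Def_W4sga3xxiRoot

namespace RootBasicLib

open RootPairing

variable {ι M N : Type*} [AddCommGroup M] [AddCommGroup N] (P : RootPairing ι ℤ M N)

lemma pairingIn_eq_pairing (i j : ι) : P.pairingIn ℤ i j = P.pairing i j := by
  simpa using P.algebraMap_pairingIn ℤ i j

include P in
lemma smul_eq_zero_imp {n : ℤ} {x : M} (hn : n ≠ 0) (h : n • x = 0) : x = 0 := by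
  have hinj : Function.Injective P.toPerfPair := P.toPerfPair.injective
  apply hinj
  rw [map_zero]
  ext y
  have h2 := congrArg (fun z => P.toPerfPair z y) h
  simp only [map_zero, LinearMap.zero_apply, map_zsmul, LinearMap.smul_apply, smul_eq_mul] at h2
  simpa [hn] using h2

include P in
lemma torsionFree : Module.IsTorsionFree ℤ M :=
  Module.IsTorsionFree.of_smul_eq_zero fun n x h => by
    by_cases hn : n = 0
    · exact Or.inl hn
    · exact Or.inr (smul_eq_zero_imp P hn h)

lemma root_reflectionPerm_self (i : ι) : P.root (P.reflectionPerm i i) = - P.root i := by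
  simp

variable [Finite ι]

/-- The invariant form, with a chosen `Fintype` structure. -/
noncomputable def bform : LinearMap.BilinForm ℤ M :=
  letI := Fintype.ofFinite ι
  P.RootForm

lemma bform_symm (x y : M) : bform P x y = bform P y x :=
  letI := Fintype.ofFinite ι
  P.rootForm_symmetric.eq x y

lemma bform_self_nonneg (x : M) : 0 ≤ bform P x x := by
  let _ := Fintype.ofFinite ι
  exact IsSumSq.nonneg (P.rootForm_self_sum_of_squares x)

lemma bform_root_pos (i : ι) : 0 < bform P (P.root i) (P.root i) := by
  let _ := Fintype.ofFinite ι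
  show 0 < P.RootForm (P.root i) (P.root i)
  rw [P.rootForm_root_self]
  refine Finset.sum_pos' (fun j _ => mul_self_nonneg _) ⟨i, Finset.mem_univ i, ?_⟩
  simp

lemma two_bform_apply_root (x : M) (i : ι) :
    2 * bform P x (P.root i) = bform P (P.root i) (P.root i) * P.coroot' i x := by
  let _ := Fintype.ofFinite ι
  show 2 * P.RootForm x (P.root i) = P.RootForm (P.root i) (P.root i) * P.coroot' i x
  have h := congrArg (fun c => P.toLinearMap x c) (P.rootForm_self_smul_coroot i)
  simp only [map_zsmul, map_nsmul, smul_eq_mul, nsmul_eq_mul, Nat.cast_ofNat] at h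
  rw [P.toLinearMap_apply_apply_Polarization] at h
  rw [show P.RootForm x (P.root i) = P.RootForm (P.root i) x from P.rootForm_symmetric.eq x (P.root i)]
  exact h.symm

lemma bform_root_pos_iff (i j : ι) :
    0 < bform P (P.root i) (P.root j) ↔ 0 < P.pairing i j := by
  have h := two_bform_apply_root P (P.root i) j
  have h2 := bform_root_pos P j
  have h3 : P.coroot' j (P.root i) = P.pairing i j := P.root_coroot_eq_pairing i j
  constructor
  · intro hp
    by_contra hc
    nlinarith
  · intro hp
    nlinarith

lemma bform_root_neg_iff (i j : ι) :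
    bform P (P.root i) (P.root j) < 0 ↔ P.pairing i j < 0 := by
  have h := two_bform_apply_root P (P.root i) j
  have h2 := bform_root_pos P j
  have h3 : P.coroot' j (P.root i) = P.pairing i j := P.root_coroot_eq_pairing i j
  constructor
  · intro hp
    by_contra hc
    nlinarith
  · intro hp
    nlinarith

lemma exists_root_eq_sub {i j : ι} (h : 0 < P.pairing i j) (hne : i ≠ j) :
    ∃ k, P.root k = P.root i - P.root j := by
  rw [← pairingIn_eq_pairing] at h
  exact P.root_sub_root_mem_of_pairingIn_pos h hne

lemma exists_pairing_pos_of_sum_eq {L : List ι} {k : ι}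
    (h : (L.map P.root).sum = P.root k) : ∃ r ∈ L, 0 < P.pairing k r := by
  have h1 : 0 < ((L.map P.root).map (bform P (P.root k))).sum := by
    rw [← map_list_sum, h]; exact bform_root_pos P k
  by_contra hc
  push Not at hc
  have : ((L.map P.root).map (bform P (P.root k))).sum ≤ 0 := by
    refine (List.sum_le_card_nsmul _ (0 : ℤ) ?_).trans (by simp)
    intro x hx
    simp only [List.map_map, List.mem_map, Function.comp] at hx
    obtain ⟨r, hr, rfl⟩ := hx
    by_contra hp
    push Not at hp
    have := (bform_root_pos_iff P k r).1 hp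
    have := hc r hr
    omega
  omega

lemma exists_list_of_mem_natSpan {S : Set ι} {x : M} (hx : x ∈ RootD.natSpan P S) :
    ∃ L : List ι, (∀ r ∈ L, r ∈ S) ∧ (L.map P.root).sum = x := by
  induction hx using AddSubmonoid.closure_induction with
  | mem x hx => obtain ⟨i, hi, rfl⟩ := hx; exact ⟨[i], by simpa using hi, by simp⟩
  | zero => exact ⟨[], by simp, by simp⟩
  | add x y _ _ ihx ihy =>
    obtain ⟨A, hA, rfl⟩ := ihx
    obtain ⟨B, hB, rfl⟩ := ihy
    exact ⟨A ++ B, fun r hr => (List.mem_append.1 hr).elim (hA r) (hB r), by simp⟩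

lemma list_sum_mem_natSpan {S : Set ι} {L : List ι} (hL : ∀ r ∈ L, r ∈ S) :
    (L.map P.root).sum ∈ RootD.natSpan P S := by
  apply list_sum_mem
  intro x hx
  obtain ⟨r, hr, rfl⟩ := List.mem_map.1 hx
  exact AddSubmonoid.subset_closure ⟨r, hL r hr, rfl⟩

lemma isClosedSub_iff_natSpan (S : Set ι) :
    RootD.IsClosedSub P S ↔ ∀ k : ι, P.root k ∈ RootD.natSpan P S → k ∈ S := by
  constructor
  · intro hS k hk
    obtain ⟨L, hL, hsum⟩ := exists_list_of_mem_natSpan P hk
    induction hn : L.length using Nat.strong_induction_on generalizing L k with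
    | _ n ih =>
      obtain ⟨r, hr, hpos⟩ := exists_pairing_pos_of_sum_eq P hsum
      by_cases hkr : k = r
      · exact hkr ▸ hL r hr
      obtain ⟨k', hk'⟩ := exists_root_eq_sub P hpos hkr
      classical
      have hperm := (List.perm_cons_erase hr).map P.root |>.sum_eq
      rw [hsum, List.map_cons, List.sum_cons] at hperm
      have hmem : k' ∈ S := by
        refine ih (L.erase r).length ?_ k' ?_ (L.erase r) ?_ ?_ rfl
        · rw [← hn, List.length_erase_of_mem hr]
          have := List.length_pos_of_mem hr
          omega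
        · rw [hk', hperm, add_sub_cancel_left]
          exact list_sum_mem_natSpan P fun x hx => hL x (List.mem_of_mem_erase hx)
        · exact fun x hx => hL x (List.mem_of_mem_erase hx)
        · rw [hk', hperm, add_sub_cancel_left]
      exact hS hmem (hL r hr) (by rw [hk', sub_add_cancel])
  · intro h i j k hi hj he
    refine h k ?_
    rw [he]
    exact add_mem (AddSubmonoid.subset_closure ⟨i, hi, rfl⟩)
      (AddSubmonoid.subset_closure ⟨j, hj, rfl⟩)

end RootBasicLib
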